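/-
Logarithmic differentials in factorial rings formally smooth over a field of characteristic zero.
-/
import Mathlib

universe u

noncomputable section

namespace Groth.Agent.DlogUfd

open KaehlerDifferential TensorProduct

variable {k : Type u} [Field k] [CharZero k] {R : Type u} [CommRing R] [IsDomain R] [Algebra k R]
  [Algebra.FormallySmooth k R] [Algebra.EssFiniteType k R]

/-- The differential of a prime element is nonzero modulo the prime. -/
theorem dvd_of_smul_D_eq {q x : R} (hq : Prime q) (ω : Ω[R⁄k]) (h : x • D k R q = q • ω) : q ∣ x := by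
  haveI hQ : (Ideal.span {q}).IsPrime := (Ideal.span_singleton_prime hq.ne_zero).2 hq
  set Q := Ideal.span {q}
  by_contra hx
  let P := Localization.AtPrime Q
  let L := IsLocalRing.ResidueField P
  haveI : Algebra.FormallySmooth R P := Algebra.FormallySmooth.of_isLocalization Q.primeCompl
  haveI : Algebra.FormallySmooth k P := Algebra.FormallySmooth.comp k R P
  haveI : Algebra.EssFiniteType R P := Algebra.EssFiniteType.of_isLocalization P Q.primeCompl
  haveI : Algebra.EssFiniteType k P := Algebra.EssFiniteType.comp k R P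
  haveI : Algebra.EssFiniteType k L := Algebra.EssFiniteType.comp k P L
  haveI : Algebra.FormallySmooth k L := inferInstance
  have hsurj : Function.Surjective (algebraMap P L) := IsLocalRing.residue_surjective
  obtain ⟨l, hl⟩ := (Algebra.FormallySmooth.iff_split_injection (R := k) (P := P) (A := L) hsurj).1 inferInstance
  have hqm : algebraMap R P q ∈ RingHom.ker (algebraMap P L) := by
    rw [IsLocalRing.ResidueField.algebraMap_eq, IsLocalRing.ker_residue,
      ← Localization.AtPrime.map_eq_maximalIdeal]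
    exact Ideal.mem_map_of_mem _ (Ideal.mem_span_singleton_self q)
  have hxu : IsUnit (algebraMap P L (algebraMap R P x)) :=
    (IsLocalization.map_units P (⟨x, fun hm => hx (Ideal.mem_span_singleton.1 hm)⟩ : Q.primeCompl)).map _
  have hP : algebraMap R P x • D k P (algebraMap R P q) = algebraMap R P q • map k k R P ω := by
    have := congrArg (map k k R P) h
    rw [map_smul, map_smul, map_D] at this
    rwa [algebraMap_smul, algebraMap_smul]
  have h1 : kerCotangentToTensor k P L ((RingHom.ker (algebraMap P L)).toCotangent ⟨_, hqm⟩) = 0 := by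
    rw [kerCotangentToTensor_toCotangent]
    have h2 := congrArg (fun w => (1 : L) ⊗ₜ[P] w) hP
    simp only [← TensorProduct.smul_tmul, Algebra.smul_def, mul_one] at h2
    rw [RingHom.mem_ker.1 hqm, TensorProduct.zero_tmul] at h2
    obtain ⟨y, hy⟩ := hxu.exists_left_inv
    have h3 := congrArg (fun w => y • w) h2
    simp only [TensorProduct.smul_tmul', smul_eq_mul, hy, smul_zero] at h3
    exact h3
  have h4 := congrArg l h1
  rw [map_zero, ← LinearMap.comp_apply, hl, LinearMap.id_apply, Ideal.toCotangent_eq_zero] at h4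
  have hk : RingHom.ker (algebraMap P L) = IsLocalRing.maximalIdeal P := IsLocalRing.ker_residue
  replace h4 : algebraMap R P q ∈ IsLocalRing.maximalIdeal P ^ 2 := SetLike.le_def.1 (le_of_eq (congrArg (fun J => J ^ 2) hk)) h4
  rw [← Localization.AtPrime.map_eq_maximalIdeal, Ideal.map_span, Set.image_singleton, Ideal.span_singleton_pow,
    Ideal.mem_span_singleton] at h4
  obtain ⟨t, ht⟩ := h4
  have hq0 : algebraMap R P q ≠ 0 := fun h0 => hq.ne_zero
    (IsLocalization.injective P Q.primeCompl_le_nonZeroDivisors (h0.trans (map_zero _).symm))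
  have hu : IsUnit (algebraMap R P q) := IsUnit.of_mul_eq_one t (mul_left_cancel₀ hq0 (by
    rw [mul_one]; conv_rhs => rw [ht]
    ring))
  exact (IsLocalRing.maximalIdeal.isMaximal P).ne_top (Ideal.eq_top_of_isUnit_mem _ (by
    rw [← Localization.AtPrime.map_eq_maximalIdeal]
    exact Ideal.mem_map_of_mem _ (Ideal.mem_span_singleton_self q)) hu)

variable {K : Type u} [Field K] [Algebra R K] [IsFractionRing R K] [Algebra k K] [IsScalarTower k R K]

theorem map_injective : Function.Injective (map k k R K) := by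
  intro a b h
  obtain ⟨⟨s, hs⟩, hc⟩ := IsLocalizedModule.exists_of_eq (S := nonZeroDivisors R) (f := map k k R K) h
  exact smul_right_injective Ω[R⁄k] (nonZeroDivisors.ne_zero hs) hc

/-- The logarithmic differential. -/
def dlog (x : K) : Ω[K⁄k] := x⁻¹ • D k K x

omit [IsFractionRing R K] in
theorem dlog_mul {x y : K} (hx : x ≠ 0) (hy : y ≠ 0) : dlog (k := k) (x * y) = dlog x + dlog y := by
  rw [dlog, dlog, dlog, Derivation.leibniz, smul_add, smul_smul, smul_smul, add_comm]
  congr 1 <;> congr 1 <;> field_simp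

theorem dlog_one : dlog (k := k) (1 : K) = 0 := by rw [dlog, Derivation.map_one_eq_zero, smul_zero]

variable [UniqueFactorizationMonoid R] {ι : Type} [Fintype ι] (f : ι → R)

omit [CharZero k] [Algebra k R] [Algebra.FormallySmooth k R] [Algebra.EssFiniteType k R] in
theorem exists_split (hf : ∀ i, Prime (f i)) {a : R} (ha : a ≠ 0) :
    ∃ (e : ι → ℕ) (a' : R), a = a' * ∏ i, f i ^ e i ∧ ∀ i, ¬ f i ∣ a' := by
  classical
  induction a using (wellFounded_dvdNotUnit (α := R)).induction with
  | _ a ih =>
    by_cases h : ∃ i, f i ∣ a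
    · obtain ⟨i, b, rfl⟩ := h
      have hb : b ≠ 0 := right_ne_zero_of_mul ha
      obtain ⟨e, a', hb', ha'⟩ := ih b ⟨hb, f i, (hf i).not_unit, mul_comm _ _⟩ hb
      refine ⟨Function.update e i (e i + 1), a', ?_, ha'⟩
      rw [hb', ← Finset.mul_prod_erase _ (fun j => f j ^ Function.update e i (e i + 1) j) (Finset.mem_univ i),
        ← Finset.mul_prod_erase _ (fun j => f j ^ e j) (Finset.mem_univ i), Function.update_self,
        Finset.prod_congr (s₁ := Finset.univ.erase i) rfl fun j hj => show f j ^ Function.update e i (e i + 1) j = f j ^ e j by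
          rw [Function.update_of_ne (Finset.mem_erase.1 hj).1], pow_succ]
      ring
    · push Not at h
      exact ⟨0, a, by simp, h⟩

omit [UniqueFactorizationMonoid R] in
theorem dlog_algebraMap_mul_prod (hf : ∀ i, Prime (f i)) {a : R} (ha : a ≠ 0) (e : ι → ℕ) :
    dlog (k := k) (algebraMap R K (a * ∏ i, f i ^ e i)) = dlog (algebraMap R K a) +
      ∑ i, ((e i : K) * (algebraMap R K (f i))⁻¹) • D k K (algebraMap R K (f i)) := by
  classical
  have hinj := IsFractionRing.injective R K
  have hne : ∀ {y : R}, y ≠ 0 → algebraMap R K y ≠ 0 := fun hy h => hy (hinj (h.trans (map_zero _).symm))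
  have : ∀ s : Finset ι, dlog (k := k) (algebraMap R K (∏ i ∈ s, f i ^ e i)) =
      ∑ i ∈ s, ((e i : K) * (algebraMap R K (f i))⁻¹) • D k K (algebraMap R K (f i)) := by
    intro s
    induction s using Finset.induction with
    | empty => simp [dlog_one]
    | insert i s hi ih =>
      rw [Finset.prod_insert hi, Finset.sum_insert hi, map_mul,
        dlog_mul (hne (pow_ne_zero _ (hf i).ne_zero))
          (hne (Finset.prod_ne_zero_iff.2 fun j _ => pow_ne_zero _ (hf j).ne_zero)), ih]
      congr 1
      rw [dlog, map_pow, Derivation.leibniz_pow, ← Nat.cast_smul_eq_nsmul K, smul_smul, smul_smul]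
      rcases Nat.eq_zero_or_pos (e i) with h0 | h0
      · simp [h0]
      congr 1
      have h1 := hne (hf i).ne_zero
      obtain ⟨m, hm⟩ : ∃ m, e i = m + 1 := ⟨e i - 1, by omega⟩
      rw [hm, Nat.add_sub_cancel, pow_succ]
      push_cast
      field_simp
  rw [map_mul, dlog_mul (hne ha) (hne (Finset.prod_ne_zero_iff.2 fun j _ => pow_ne_zero _ (hf j).ne_zero)), this]

omit [CharZero k] in
theorem clear_denoms {L M : Type*} [Field L] [AddCommGroup M] [Module L M] {A B : L} (hA : A ≠ 0) (hB : B ≠ 0)
    (DA DB η : M) (C G H : ι → L) (hG : ∀ i, G i ≠ 0) (F : L) (hF : ∀ i, G i * H i = F) (w : ι → M)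
    (h : A⁻¹ • DA - B⁻¹ • DB = η + ∑ i, (C i * (G i)⁻¹) • w i) :
    (B * F) • DA - (A * F) • DB = A • ((B * F) • η + ∑ i, (B * C i * H i) • w i) := by
  have h2 := congrArg (fun x => (A * B * F) • x) h
  simp only [smul_sub, smul_add, Finset.smul_sum, smul_smul] at h2 ⊢
  convert h2 using 2
  · congr 1; field_simp
  · congr 1; field_simp
  · congr 1; ring
  · refine Finset.sum_congr rfl fun i _ => ?_
    congr 1
    rw [← hF i]
    have := hG i
    field_simp

/-- The key step. -/
theorem isUnit_of_relation (hf : ∀ i, Prime (f i)) {a b : R} (ha : a ≠ 0) (hb : b ≠ 0) (hrel : IsRelPrime a b)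
    (hfa : ∀ i, ¬ f i ∣ a) (η : Ω[R⁄k]) (c : ι → R)
    (h : dlog (k := k) (algebraMap R K a) - dlog (algebraMap R K b) = map k k R K η +
      ∑ i, (algebraMap R K (c i) * (algebraMap R K (f i))⁻¹) • D k K (algebraMap R K (f i))) :
    IsUnit a := by
  classical
  by_contra hau
  obtain ⟨q, hqi, hqa⟩ := WfDvdMonoid.exists_irreducible_factor hau ha
  have hq : Prime q := hqi.prime
  have hinj := IsFractionRing.injective R K
  have hne : ∀ {y : R}, y ≠ 0 → algebraMap R K y ≠ 0 := fun hy h => hy (hinj (h.trans (map_zero _).symm))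
  set F := ∏ i, f i with hF
  set Fi := fun i => ∏ j ∈ Finset.univ.erase i, f j
  have hR : (b * F) • D k R a - (a * F) • D k R b = a • ((b * F) • η + ∑ i, (b * c i * Fi i) • D k R (f i)) := by
    apply map_injective (K := K)
    have hs : ∀ (r : R) (w : Ω[K⁄k]), r • w = algebraMap R K r • w := fun r w => (algebraMap_smul K r w).symm
    rw [map_sub, map_smul, map_smul, map_smul, map_add, map_smul, map_sum, map_D, map_D]
    simp only [map_smul, map_D, hs, map_mul]
    refine clear_denoms (hne ha) (hne hb) _ _ _ (fun i => algebraMap R K (c i)) (fun i => algebraMap R K (f i))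
      (fun i => algebraMap R K (Fi i)) (fun i => hne (hf i).ne_zero) _ (fun i => ?_) _ h
    rw [← map_mul, hF, Finset.mul_prod_erase _ _ (Finset.mem_univ i)]
  obtain ⟨n, a', ha', hn⟩ := WfDvdMonoid.max_power_factor ha hqi
  subst hn
  obtain ⟨m, rfl⟩ : ∃ m, n = m + 1 := by
    rcases Nat.eq_zero_or_pos n with h0 | h0
    · subst h0; rw [pow_zero, one_mul] at hqa; exact absurd hqa ha'
    · exact ⟨n - 1, by omega⟩
  have hkey : ∃ ω : Ω[R⁄k], (((m + 1 : ℕ) : R) * a' * b * F) • D k R q = q • ω := by
    refine ⟨a' • (F • D k R b + ((b * F) • η + ∑ i, (b * c i * Fi i) • D k R (f i))) - (b * F) • D k R a', ?_⟩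
    apply smul_right_injective Ω[R⁄k] (pow_ne_zero m hq.ne_zero)
    rw [Derivation.leibniz, Derivation.leibniz_pow, Nat.add_sub_cancel, ← Nat.cast_smul_eq_nsmul R,
      sub_eq_iff_eq_add] at hR
    generalize (b * F) • η + ∑ i, (b * c i * Fi i) • D k R (f i) = η' at hR ⊢
    show q ^ m • _ = q ^ m • _
    linear_combination (norm := (simp only [pow_succ]; module)) hR
  obtain ⟨ω, hω⟩ := hkey
  rcases hq.dvd_or_dvd (dvd_of_smul_D_eq hq ω hω) with h3 | h3
  · rcases hq.dvd_or_dvd h3 with h4 | h4
    · rcases hq.dvd_or_dvd h4 with h5 | h5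
      · have hu : IsUnit ((m + 1 : ℕ) : R) := by
          rw [← map_natCast (algebraMap k R)]
          exact (isUnit_iff_ne_zero.2 (Nat.cast_ne_zero.2 m.succ_ne_zero)).map _
        exact hq.not_unit (isUnit_of_dvd_unit h5 hu)
      · exact ha' h5
    · exact hq.not_unit (hrel hqa h4)
  · obtain ⟨i, -, hi⟩ := hq.exists_mem_finset_dvd h3
    exact hfa i ((hq.associated_of_dvd (hf i) hi).symm.dvd.trans hqa)

/-- A logarithmic differential with log poles along the `f i` comes from units and powers of the `f i`. -/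
theorem exists_unit_zpow (hf : ∀ i, Prime (f i)) (g : Kˣ) (η : Ω[R⁄k]) (c : ι → R)
    (h : dlog (k := k) (g : K) = map k k R K η +
      ∑ i, (algebraMap R K (c i) * (algebraMap R K (f i))⁻¹) • D k K (algebraMap R K (f i))) :
    ∃ (v : Rˣ) (z : ι → ℤ), dlog (k := k) (g : K) = dlog (algebraMap R K (v : R)) +
      ∑ i, ((z i : K) * (algebraMap R K (f i))⁻¹) • D k K (algebraMap R K (f i)) := by
  classical
  have hinj := IsFractionRing.injective R K
  have hne : ∀ {y : R}, y ≠ 0 → algebraMap R K y ≠ 0 := fun hy h => hy (hinj (h.trans (map_zero _).symm))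
  obtain ⟨a₀, ⟨b₀, hb₀⟩, hg⟩ := IsLocalization.exists_mk'_eq (nonZeroDivisors R) (g : K)
  obtain ⟨a, b, d, hrel, rfl, rfl⟩ := UniqueFactorizationMonoid.exists_reduced_factors' a₀ b₀ (nonZeroDivisors.ne_zero hb₀)
  have hd : d ≠ 0 := left_ne_zero_of_mul (nonZeroDivisors.ne_zero hb₀)
  have hb : b ≠ 0 := right_ne_zero_of_mul (nonZeroDivisors.ne_zero hb₀)
  rw [IsFractionRing.mk'_eq_div] at hg
  have hg' : (g : K) = algebraMap R K a * (algebraMap R K b)⁻¹ := by
    rw [← hg]; simp only [map_mul]; field_simp [hne hd]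
  have ha : a ≠ 0 := fun h0 => g.ne_zero (by rw [hg', h0, map_zero, zero_mul])
  obtain ⟨ea, a', rfl, hfa⟩ := exists_split f hf ha
  obtain ⟨eb, b', rfl, hfb⟩ := exists_split f hf hb
  have ha' : a' ≠ 0 := left_ne_zero_of_mul ha
  have hb' : b' ≠ 0 := left_ne_zero_of_mul hb
  have hgd : dlog (k := k) (g : K) = dlog (algebraMap R K a') - dlog (algebraMap R K b') +
      ∑ i, ((((ea i : ℤ) - eb i : ℤ) : K) * (algebraMap R K (f i))⁻¹) • D k K (algebraMap R K (f i)) := by
    have h5 := dlog_mul (k := k) g.ne_zero (hne hb)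
    rw [show (g : K) * algebraMap R K (b' * ∏ i, f i ^ eb i) = algebraMap R K (a' * ∏ i, f i ^ ea i) by
      rw [hg', inv_mul_cancel_right₀ (hne hb)], dlog_algebraMap_mul_prod f hf ha', dlog_algebraMap_mul_prod f hf hb'] at h5
    rw [← eq_sub_iff_add_eq] at h5
    rw [h5]
    push_cast
    simp only [sub_mul, sub_smul, Finset.sum_sub_distrib]
    abel
  have hrel' : IsRelPrime a' b' := fun x hx hy => hrel (hx.mul_right _) (hy.mul_right _)
  have h0 : dlog (k := k) (algebraMap R K a') - dlog (algebraMap R K b') = map k k R K η +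
      ∑ i, (algebraMap R K (c i - (((ea i : ℤ) - eb i : ℤ) : R)) * (algebraMap R K (f i))⁻¹) • D k K (algebraMap R K (f i)) := by
    rw [eq_sub_of_add_eq (h := hgd.symm.trans h)]
    simp only [map_sub, map_intCast, sub_mul, sub_smul, Finset.sum_sub_distrib]
    abel
  have hua := isUnit_of_relation f hf ha' hb' hrel' hfa η _ h0
  have h1 : dlog (k := k) (algebraMap R K b') - dlog (algebraMap R K a') = map k k R K (-η) +
      ∑ i, (algebraMap R K (-(c i - (((ea i : ℤ) - eb i : ℤ) : R))) * (algebraMap R K (f i))⁻¹) • D k K (algebraMap R K (f i)) := by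
    rw [← neg_sub, h0]
    simp only [map_neg, neg_mul, neg_smul, Finset.sum_neg_distrib, neg_add]
  have hub := isUnit_of_relation f hf hb' ha' hrel'.symm hfb (-η) _ h1
  refine ⟨hua.unit * hub.unit⁻¹, fun i => (ea i : ℤ) - eb i, ?_⟩
  rw [hgd]
  congr 1
  have h6 := dlog_mul (k := k) (hne ((hua.unit * hub.unit⁻¹ : Rˣ)).ne_zero) (hne hb')
  rw [← map_mul, Units.val_mul, mul_assoc, hub.val_inv_mul, mul_one, hua.unit_spec] at h6
  exact sub_eq_of_eq_add h6

end Groth.Agent.DlogUfd
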